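import Mathlib

/-!
# Localisations of finite modules at minimal primes of the support are Artinian
-/

set_option autoImplicit false

universe u v

namespace Groth.Agent.H8.EqChain

section Art

variable {R : Type u} [CommRing R] [IsNoetherianRing R]

/-- A finite module killed by a power of a maximal ideal is Artinian. -/
theorem isArtinian_of_pow_smul_eq_zero (m : Ideal R) [hm : m.IsMaximal] (k : ℕ) :
    ∀ (T : Type v) [AddCommGroup T] [Module R T] [Module.Finite R T],
      (∀ r ∈ m ^ k, ∀ x : T, r • x = 0) → IsArtinian R T := by
  induction k with
  | zero =>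
    intro T _ _ _ h
    have : Subsingleton T := ⟨fun a b => by
      have ha := h 1 (by simp) a
      have hb := h 1 (by simp) b
      rw [one_smul] at ha hb
      rw [ha, hb]⟩
    have : Finite T := Finite.of_subsingleton
    exact isArtinian_of_finite
  | succ k ih =>
    intro T _ _ _ h
    let T' : Submodule R T := m • ⊤
    have h1 : IsArtinian R T' := by
      refine ih T' fun r hr x => ?_
      obtain ⟨x, hx⟩ := x
      apply Subtype.ext
      change r • x = 0
      refine Submodule.smul_induction_on hx (fun a ha y _ => ?_) (fun y z hy hz => ?_)
      · rw [← mul_smul]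
        exact h _ (by rw [pow_succ]; exact Ideal.mul_mem_mul hr ha) y
      · rw [smul_add, hy, hz, add_zero]
    have h2 : IsArtinian R (T ⧸ T') := by
      letI : Field (R ⧸ m) := Ideal.Quotient.field m
      have : Module.Finite (R ⧸ m) (T ⧸ T') := Module.Finite.of_restrictScalars_finite R _ _
      have : IsArtinian (R ⧸ m) (T ⧸ T') := inferInstance
      exact isArtinian_of_surjective_algebraMap (R := R ⧸ m) Ideal.Quotient.mk_surjective
    exact isArtinian_of_range_eq_ker T'.subtype T'.mkQ (by rw [Submodule.range_subtype, Submodule.ker_mkQ])

end Art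

variable {A : Type u} [CommRing A] [IsNoetherianRing A]

/-- The localisation of a finite module at a minimal prime of its annihilator is Artinian. -/
theorem isArtinian_localizedModule_of_mem_minimalPrimes (N : Type u) [AddCommGroup N] [Module A N]
    [Module.Finite A N] (p : Ideal A) [p.IsPrime]
    (hp : p ∈ (Module.annihilator A N).minimalPrimes) :
    IsArtinian (Localization.AtPrime p) (LocalizedModule p.primeCompl N) := by
  set R := Localization.AtPrime p
  set K : Ideal R := (Module.annihilator A N).map (algebraMap A R) with hK
  -- `K` kills the localised module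
  have hkill : ∀ r ∈ K, ∀ x : LocalizedModule p.primeCompl N, r • x = 0 := by
    intro r hr x
    rw [hK, Ideal.map] at hr
    refine Submodule.span_induction ?_ ?_ ?_ ?_ hr
    · rintro _ ⟨a, ha, rfl⟩
      induction x using LocalizedModule.induction_on with
      | h n s =>
        rw [algebraMap_smul, LocalizedModule.smul'_mk]
        have : a • n = 0 := Module.mem_annihilator.1 ha n
        rw [this, LocalizedModule.zero_mk]
    · rw [zero_smul]
    · intro a b _ _ ha hb
      rw [add_smul, ha, hb, add_zero]
    · intro a b _ hb
      rw [smul_eq_mul, mul_smul, hb, smul_zero]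
  -- the maximal ideal is the radical of `K`
  have hrad : IsLocalRing.maximalIdeal R ≤ K.radical := by
    rw [Ideal.radical_eq_sInf]
    refine le_sInf ?_
    rintro q ⟨hKq, hq⟩
    have h1 : Module.annihilator A N ≤ q.comap (algebraMap A R) := Ideal.map_le_iff_le_comap.1 hKq
    have h2 : q.comap (algebraMap A R) ≤ p := by
      have := IsLocalRing.le_maximalIdeal hq.ne_top
      calc q.comap (algebraMap A R) ≤ (IsLocalRing.maximalIdeal R).comap (algebraMap A R) :=
            Ideal.comap_mono this
        _ = p := IsLocalization.AtPrime.comap_maximalIdeal R p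
    have h3 : p ≤ q.comap (algebraMap A R) := hp.2 ⟨inferInstance, h1⟩ h2
    calc IsLocalRing.maximalIdeal R = p.map (algebraMap A R) :=
          (Localization.AtPrime.map_eq_maximalIdeal).symm
      _ ≤ (q.comap (algebraMap A R)).map (algebraMap A R) := Ideal.map_mono h3
      _ ≤ q := Ideal.map_comap_le
  obtain ⟨k, hk⟩ := Ideal.exists_pow_le_of_le_radical_of_fg hrad
    (IsNoetherian.noetherian (IsLocalRing.maximalIdeal R))
  exact isArtinian_of_pow_smul_eq_zero (IsLocalRing.maximalIdeal R) k _
    fun r hr x => hkill r (hk hr) x

end Groth.Agent.H8.EqChain
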