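import Mathlib

/-!
# A local form of "finite epimorphisms are surjective"
-/

set_option autoImplicit false

universe u

open TensorProduct

namespace Groth.Agent.H8.EqChain

variable {A : Type u} [CommRing A]

/-- If `N ⊗ N` is `p`-torsion for a finite module `N`, then so is `N`. -/
lemma torsion_of_tensor_self_torsion (N : Type u) [AddCommGroup N] [Module A N] [Module.Finite A N]
    (p : Ideal A) [p.IsPrime]
    (h : ∀ z : N ⊗[A] N, ∃ t ∈ p.primeCompl, t • z = 0) :
    ∀ x : N, ∃ t ∈ p.primeCompl, t • x = 0 := by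
  let κ := p.ResidueField
  -- `κ ⊗ (N ⊗ N) = 0`
  have h0 : Subsingleton (κ ⊗[A] (N ⊗[A] N)) := by
    refine ⟨fun a b => ?_⟩
    have key : ∀ z : κ ⊗[A] (N ⊗[A] N), z = 0 := by
      intro z
      induction z using TensorProduct.induction_on with
      | zero => rfl
      | tmul a z =>
        obtain ⟨t, ht, htz⟩ := h z
        have hu : algebraMap A κ t ≠ 0 := by
          intro h0
          exact ht (Ideal.algebraMap_residueField_eq_zero.1 h0)
        have : a ⊗ₜ[A] z = (a * (algebraMap A κ t)⁻¹) ⊗ₜ[A] (t • z) := by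
          rw [TensorProduct.tmul_smul, TensorProduct.smul_tmul', Algebra.smul_def,
            mul_comm (algebraMap A κ t), mul_assoc, inv_mul_cancel₀ hu, mul_one]
        rw [this, htz, TensorProduct.tmul_zero]
      | add x y hx hy => rw [hx, hy, add_zero]
    rw [key a, key b]
  have h1 : Subsingleton ((κ ⊗[A] N) ⊗[κ] (κ ⊗[A] N)) :=
    (AlgebraTensorModule.distribBaseChange A κ N N).symm.toEquiv.subsingleton
  have h2 : Subsingleton (κ ⊗[A] N) := by
    by_contra hne
    rw [not_subsingleton_iff_nontrivial] at hne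
    have hpos : 0 < Module.finrank κ (κ ⊗[A] N) := Module.finrank_pos
    have : Module.finrank κ ((κ ⊗[A] N) ⊗[κ] (κ ⊗[A] N)) = 0 := Module.finrank_zero_of_subsingleton
    rw [Module.finrank_tensorProduct] at this
    have := Nat.mul_pos hpos hpos
    omega
  have h3 : (⟨p, inferInstance⟩ : PrimeSpectrum A) ∉ Module.support A N := by
    rw [Module.mem_support_iff_nontrivial_residueField_tensorProduct]
    exact not_nontrivial_iff_subsingleton.2 h2
  rw [Module.notMem_support_iff'] at h3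
  intro x
  obtain ⟨t, ht, htx⟩ := h3 x
  exact ⟨t, ht, htx⟩

variable {C : Type u} [CommRing C] [Algebra A C]

/-- Local version of: a finite epimorphism of rings is surjective. -/
theorem exists_smul_mem_range [Module.Finite A C] (p : Ideal A) [p.IsPrime]
    (h : ∀ c : C, ∃ t ∈ p.primeCompl, ((t • c) ⊗ₜ[A] (1 : C) : C ⊗[A] C) = (1 : C) ⊗ₜ[A] (t • c)) :
    ∀ c : C, ∃ t ∈ p.primeCompl, t • c ∈ LinearMap.range (Algebra.linearMap A C) := by
  set R : Submodule A C := LinearMap.range (Algebra.linearMap A C) with hR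
  let π : C →ₗ[A] C ⧸ R := R.mkQ
  have hπ1 : π 1 = 0 := by
    rw [Submodule.mkQ_apply, Submodule.Quotient.mk_eq_zero]
    exact ⟨1, by simp⟩
  -- step 1
  have h1 : ∀ c : C, ∃ t ∈ p.primeCompl, t • ((1 : C) ⊗ₜ[A] π c : C ⊗[A] (C ⧸ R)) = 0 := by
    intro c
    obtain ⟨t, ht, hc⟩ := h c
    refine ⟨t, ht, ?_⟩
    have := congrArg (LinearMap.lTensor C π) hc
    rw [LinearMap.lTensor_tmul, LinearMap.lTensor_tmul, hπ1, TensorProduct.tmul_zero,
      map_smul, TensorProduct.tmul_smul] at this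
    exact this.symm
  -- step 2
  have h2 : ∀ z : (C ⧸ R) ⊗[A] (C ⧸ R), ∃ t ∈ p.primeCompl, t • z = 0 := by
    intro z
    induction z using TensorProduct.induction_on with
    | zero => exact ⟨1, p.primeCompl.one_mem, smul_zero _⟩
    | tmul x y =>
      obtain ⟨c', rfl⟩ := R.mkQ_surjective x
      obtain ⟨c, rfl⟩ := R.mkQ_surjective y
      obtain ⟨t, ht, hc⟩ := h1 c
      refine ⟨t, ht, ?_⟩
      have e : (R.mkQ c' ⊗ₜ[A] R.mkQ c : (C ⧸ R) ⊗[A] (C ⧸ R)) =
          (LinearMap.rTensor (C ⧸ R) (π ∘ₗ LinearMap.mulLeft A c'))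
            ((1 : C) ⊗ₜ[A] π c) := by
        rw [LinearMap.rTensor_tmul]
        simp [π]
      rw [e, ← map_smul, hc, map_zero]
    | add x y hx hy =>
      obtain ⟨t, ht, h1⟩ := hx
      obtain ⟨s, hs, h2⟩ := hy
      refine ⟨t * s, p.primeCompl.mul_mem ht hs, ?_⟩
      rw [smul_add, mul_smul, smul_comm t s x, h1, smul_zero, zero_add, mul_smul, h2, smul_zero]
  have h3 := torsion_of_tensor_self_torsion (C ⧸ R) p h2
  intro c
  obtain ⟨t, ht, hc⟩ := h3 (π c)
  refine ⟨t, ht, ?_⟩
  rwa [← map_smul, Submodule.mkQ_apply, Submodule.Quotient.mk_eq_zero] at hc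

end Groth.Agent.H8.EqChain
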