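import Mathlib
import Groth.Agent.Lib.Helper8.EqChain.EpiLoc
import Groth.Agent.Lib.Helper8.EqChain.ArtLoc

set_option autoImplicit false

universe u

open TensorProduct

namespace Groth.Agent.H8.EqChain

theorem main (A B : Type u) [CommRing A] [CommRing B] [Algebra A B]
    [IsNoetherianRing A] [Module.Finite A B]
    (C : ℕ → Subalgebra A B)
    (hstep : ∀ (i : ℕ) (b : B), b ∈ C (i + 1) ↔ ∃ hb : b ∈ C i,
      ((⟨b, hb⟩ : C i) ⊗ₜ[A] (1 : C i) : C i ⊗[A] C i) = (1 : C i) ⊗ₜ[A] (⟨b, hb⟩ : C i)) :
    ∃ m : ℕ, C m = ⊥ := by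
  have hNoeth : IsNoetherian A B := isNoetherian_of_isNoetherianRing_of_finite A B
  have hanti1 : ∀ i, C (i + 1) ≤ C i := fun i b hb => ((hstep i b).1 hb).1
  have hanti : Antitone C := antitone_nat_of_succ_le hanti1
  set R : Submodule A B := LinearMap.range (Algebra.linearMap A B) with hR
  have hRC : ∀ n, R ≤ Subalgebra.toSubmodule (C n) := by
    rintro n _ ⟨a, rfl⟩
    exact (C n).algebraMap_mem a
  have hRbot : ∀ b : B, b ∈ R → b ∈ (⊥ : Subalgebra A B) := by
    rintro _ ⟨a, rfl⟩
    exact (⊥ : Subalgebra A B).algebraMap_mem a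
  let N : ℕ → Submodule A (B ⧸ R) := fun n => (Subalgebra.toSubmodule (C n)).map R.mkQ
  have hNanti : Antitone N := fun i j hij => Submodule.map_mono (fun b hb => hanti hij hb)
  -- membership in N
  have hmemN : ∀ n (b : B), R.mkQ b ∈ N n ↔ b ∈ C n := by
    intro n b
    constructor
    · rintro ⟨c, hc, hcb⟩
      have : c - b ∈ R := by
        rw [← Submodule.Quotient.mk_eq_zero, Submodule.Quotient.mk_sub]
        simpa [sub_eq_zero] using hcb
      have h2 : b = c - (c - b) := by ring
      rw [h2]
      exact (C n).sub_mem hc (hRC n this)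
    · intro hb
      exact ⟨b, hb, rfl⟩
  let J : ℕ →o Ideal A := ⟨fun n => (N n).annihilator, fun i j hij =>
    Submodule.annihilator_mono (hNanti hij)⟩
  obtain ⟨n0, hn0⟩ := monotone_stabilizes_iff_noetherian.2 inferInstance J
  by_cases hJ : J n0 = ⊤
  · refine ⟨n0, ?_⟩
    have hbot : N n0 = ⊥ := Submodule.annihilator_eq_top_iff.1 hJ
    rw [eq_bot_iff]
    intro b hb
    have : R.mkQ b ∈ N n0 := (hmemN n0 b).2 hb
    rw [hbot, Submodule.mem_bot, Submodule.mkQ_apply, Submodule.Quotient.mk_eq_zero] at this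
    exact hRbot b this
  · exfalso
    obtain ⟨p, hp⟩ := Ideal.nonempty_minimalPrimes hJ
    haveI : p.IsPrime := hp.1.1
    have hfin0 : Module.Finite A (N n0) := inferInstance
    have hArt := isArtinian_localizedModule_of_mem_minimalPrimes (N n0) p hp
    let S := p.primeCompl
    let Rp := Localization.AtPrime p
    let f : ℕ →o (Submodule Rp (LocalizedModule S (N n0)))ᵒᵈ :=
      ⟨fun k => OrderDual.toDual (Submodule.localized' Rp S (LocalizedModule.mkLinearMap S (N n0))
        ((N (n0 + k)).comap (N n0).subtype)), fun i j hij => by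
        change Submodule.localized' Rp S _ _ ≤ Submodule.localized' Rp S _ _
        exact (Submodule.localized'gi Rp S _).gc.monotone_l (Submodule.comap_mono (hNanti (by omega)))⟩
    obtain ⟨k, hk⟩ := IsArtinian.monotone_stabilizes f
    have hk1 : Submodule.localized' Rp S (LocalizedModule.mkLinearMap S (N n0))
        ((N (n0 + k)).comap (N n0).subtype) =
      Submodule.localized' Rp S (LocalizedModule.mkLinearMap S (N n0))
        ((N (n0 + (k + 1))).comap (N n0).subtype) :=
      congrArg OrderDual.ofDual (hk (k + 1) (Nat.le_succ k))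
    set n := n0 + k with hn
    -- local claim
    have hloc : ∀ c ∈ C n, ∃ t ∈ S, t • c ∈ C (n + 1) := by
      intro c hc
      have hx : R.mkQ c ∈ N n := (hmemN n c).2 hc
      have hx0 : R.mkQ c ∈ N n0 := hNanti (by omega) hx
      have hmem : LocalizedModule.mk (⟨R.mkQ c, hx0⟩ : N n0) (1 : S) ∈
          Submodule.localized' Rp S (LocalizedModule.mkLinearMap S (N n0))
            ((N (n0 + k)).comap (N n0).subtype) := by
        rw [Submodule.mem_localized']
        exact ⟨⟨R.mkQ c, hx0⟩, hx, 1, (IsLocalizedModule.mk_eq_mk' _ _).symm⟩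
      rw [hk1, Submodule.mem_localized'] at hmem
      obtain ⟨y, hy, s, hys⟩ := hmem
      rw [← IsLocalizedModule.mk_eq_mk', LocalizedModule.mk_eq] at hys
      obtain ⟨u, hu⟩ := hys
      refine ⟨(u : A) * (s : A), S.mul_mem u.2 s.2, ?_⟩
      have h1 : ((u : A) * (s : A)) • (⟨R.mkQ c, hx0⟩ : N n0) = (u : A) • y := by
        rw [mul_smul]
        have := hu
        simp only [one_smul] at this
        exact this.symm
      have h2 : ((u : A) * (s : A)) • R.mkQ c ∈ N (n + 1) := by
        have := congrArg Subtype.val h1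
        simp only [Submodule.coe_smul] at this
        rw [this]
        exact (N (n + 1)).smul_mem _ (by simpa [hn, add_assoc] using hy)
      rw [← map_smul] at h2
      exact (hmemN (n + 1) _).1 h2
    -- apply the local epimorphism lemma
    have hfinC : Module.Finite A (C n) :=
      inferInstanceAs (Module.Finite A (Subalgebra.toSubmodule (C n)))
    have hepi : ∀ c : C n, ∃ t ∈ p.primeCompl,
        ((t • c) ⊗ₜ[A] (1 : C n) : C n ⊗[A] C n) = (1 : C n) ⊗ₜ[A] (t • c) := by
      intro c
      obtain ⟨t, ht, htc⟩ := hloc c.1 c.2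
      obtain ⟨hb, hbe⟩ := (hstep n _).1 htc
      exact ⟨t, ht, hbe⟩
    have hrange := exists_smul_mem_range p hepi
    -- every element of `N n` is torsion
    have htors : ∀ x : N n, ∃ t ∈ p.primeCompl, t • x = 0 := by
      rintro ⟨x, c, hc, rfl⟩
      obtain ⟨t, ht, a, ha⟩ := hrange ⟨c, hc⟩
      refine ⟨t, ht, Subtype.ext ?_⟩
      change t • R.mkQ c = 0
      rw [← map_smul, Submodule.mkQ_apply, Submodule.Quotient.mk_eq_zero]
      refine ⟨a, ?_⟩
      have := congrArg Subtype.val ha
      simpa using this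
    have hsupp : (⟨p, inferInstance⟩ : PrimeSpectrum A) ∉ Module.support A (N n) := by
      rw [Module.notMem_support_iff']
      exact htors
    apply hsupp
    rw [Module.mem_support_iff_of_finite]
    have : J n0 = J n := hn0 n (by omega)
    change (N n).annihilator ≤ p
    rw [show (N n).annihilator = J n from rfl, ← this]
    exact hp.1.2

end Groth.Agent.H8.EqChain
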